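/-!
Hints for the conjugation chains of the three relation words.
-/

namespace CfsgLib.HeType.Cert

/-- Hints, start and end of each chain. -/
def qqChains : List (List Nat × Nat × Nat) := [
  ([32, 65, 33, 64], 64, 64),
  ([64, 20805, 1381, 15403], 256, 15403),
  ([2, 14569, 625, 3], 2, 3),
  ([450, 9226, 450, 9226], 9226, 9226),
  ([1, 1, 1, 1], 1, 1)]

/-- Hints, start and end of each chain. -/
def op6Chains : List (List Nat × Nat × Nat) := [
  ([64, 32, 2, 2, 14553, 2, 2, 2, 14553, 2, 1, 32, 64], 64, 64),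
  ([1, 1, 66, 34, 14552, 34, 66, 34, 14552, 34, 65, 1, 1], 1, 1),
  ([64, 32, 2, 2, 14553, 2, 2, 2, 14553, 2, 1, 32, 64], 64, 64),
  ([14504, 592, 6, 6, 19504, 6, 1, 1, 65, 1, 5, 825, 16497], 14504, 16497),
  ([16432, 792, 65, 33, 64, 33, 70, 38, 19505, 38, 67, 625, 14569], 16432, 14569),
  ([7, 19569, 7, 6, 1193, 19545], 7, 19545)]

/-- Hints, start and end of each chain. -/
def op9Chains : List (List Nat × Nat × Nat) := [
  ([64, 32, 2, 2, 20951, 145, 417, 145, 14553, 2, 1, 32, 64], 64, 64),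
  ([1, 1, 66, 34, 20944, 1416, 20920, 1432, 14625, 378, 16489, 37, 69], 1, 69),
  ([4, 4, 1466, 346, 480, 129, 393, 129, 14624, 346, 16425, 4, 4], 4, 4),
  ([24, 8, 1417, 321, 462, 183, 487, 183, 14611, 321, 16437, 8, 24], 24, 24),
  ([64, 32, 2, 2, 20951, 145, 417, 145, 14553, 2, 1, 32, 64], 64, 64),
  ([1160, 256, 14491, 587, 40, 1183, 19487, 1167, 1465, 683, 1164, 292, 1228], 1160, 1228),
  ([16424, 784, 1480, 352, 398, 150, 486, 182, 14673, 680, 1160, 949, 16741], 16424, 16741),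
  ([0, 0, 0, 0, 0, 0], 0, 0)]

end CfsgLib.HeType.Cert
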